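import Cfsg.Agent.H704.S8.Defs
import Cfsg.Agent.H671.FactRows
import Cfsg.Agent.H489.OutSpor
import Cfsg.Agent.H691.StExt
import Cfsg.Agent.H996.AllSplit
import Cfsg.Agent.H464.AltExt
import Cfsg.Agent.H816.OutEmb
import Cfsg.Agent.H424.DegTools
import Cfsg.Agent.H679.LieAlt
import Cfsg.Agent.H651.Two.Data
import Cfsg.Agent.H403.SporOrd
import Cfsg.Agent.OrdDiv.Table
import Cfsg.Agent.S0000
import Cfsg.Agent.S4760

/-!
# S4908: tools for the rows SOC1, SOC2 (helper196)

* `exists_dvd_degree` : Itô–Michler for simple groups;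
* `prime_deg`, `two_deg`, `lie_pp`, `alt_deg` : degrees of an almost simple group;
* `prime_mem` : the primes dividing `facProd L`;
* `lie_five`, `lie_six` : alternating groups of Lie type.
-/

set_option autoImplicit false

namespace Cfsg.Agent.H196.S8

open Cfsg
open Cfsg.Agent.H691.AN (AlmostSimple)

universe u v

theorem exists_dvd_degree {S : Type u} [Group S] [Finite S] [IsSimpleGroup S] (hna : ¬ IsMulCommutative S) {p : ℕ}
    (hp : p.Prime) (hd : p ∣ Nat.card S) : ∃ d ∈ charDegrees S, p ∣ d := by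
  have : Fact p.Prime := ⟨hp⟩
  by_contra hcon
  push Not at hcon
  obtain ⟨P⟩ := (inferInstance : Nonempty (Sylow p S))
  have h1 := (S4760.result p P).2 fun χ hχ => hcon _ ⟨χ, rfl⟩ hχ
  obtain ⟨h2, h3⟩ := h1
  rcases IsSimpleGroup.eq_bot_or_eq_top_of_normal (P : Subgroup S) h2 with h | h
  · have h4 : p ∣ Nat.card (P : Subgroup S) := P.dvd_card_of_dvd_card hd
    rw [h, Subgroup.card_bot] at h4
    exact hp.one_lt.ne' (Nat.dvd_one.1 h4)
  · apply hna
    refine ⟨⟨fun a b => ?_⟩⟩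
    have ha : a ∈ (P : Subgroup S) := by rw [h]; exact Subgroup.mem_top a
    have hb : b ∈ (P : Subgroup S) := by rw [h]; exact Subgroup.mem_top b
    exact congrArg Subtype.val (h3.is_comm.comm (⟨a, ha⟩ : (P : Subgroup S)) ⟨b, hb⟩)

theorem exists_split (S : Type u) [Group S] [Finite S] [IsSimpleGroup S] (hna : ¬ IsMulCommutative S) :
    IsAlternating S ∨ (∃ r, r.Prime ∧ IsLieTypeChar r S) ∨ Lie.IsoTits S ∨ IsSporadicGroup S :=
  H671.FactRows.split (fun X _ _ _ => S0000.result (G := X)) S hna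

section

variable {A : Type u} [Group A] [Finite A] {S : Subgroup A} (hA : AlmostSimple A S)

include hA

theorem index_dvd : S.index ∣ Nat.card (Out S) := by
  have := hA.normal
  exact H816.OutEmb.index_dvd S (by rw [hA.cent]; exact bot_le)

theorem prime_deg {p : ℕ} (hp : p.Prime) (hd : p ∣ Nat.card S) : ∃ d ∈ charDegrees A, p ∣ d := by
  have := hA.normal
  have := hA.simple
  obtain ⟨d, h1, h2⟩ := exists_dvd_degree hA.nonab hp hd
  obtain ⟨e, h3, h4, -⟩ := H424.DegTools.clifford_up S h1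
  exact ⟨e, h3, h2.trans h4⟩

theorem two_deg (hout : Nat.card (Out S) ≤ 2) {a : ℕ} (ha : a ∈ charDegrees S) :
    a ∈ charDegrees A ∨ 2 * a ∈ charDegrees A := by
  have := hA.normal
  obtain ⟨e, h3, ⟨c, rfl⟩, h5⟩ := H424.DegTools.clifford_up S ha
  have hpos : 0 < a := H424.DegTools.pos_of_mem ha
  rw [Nat.mul_div_cancel_left _ hpos] at h5
  have : Finite (MulAut S) := Finite.of_injective _ (DFunLike.coe_injective (F := MulAut S))
  have h6 : c ∣ Nat.card (Out S) := h5.trans (index_dvd hA)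
  have h7 := Nat.le_of_dvd Nat.card_pos h6
  have h8 : c ≠ 0 := by rintro rfl; exact Nat.card_pos.ne' (zero_dvd_iff.1 h6)
  have h9 : c = 1 ∨ c = 2 := by omega
  rcases h9 with rfl | rfl
  · left; rwa [mul_one] at h3
  · right; rwa [mul_comm] at h3

theorem lie_pp {r : ℕ} (hr : r.Prime) (h : IsLieTypeChar r S) : ∃ v : ℕ, 0 < v ∧ r ^ v ∈ charDegrees A := by
  have := hA.normal
  have := hA.simple
  have := Fact.mk hr
  obtain ⟨χ, hχ, -, h1⟩ := H691.StExt.exists_ext S (H996.AllSplit.hasSplit_of_lie hr h)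
  obtain ⟨Q⟩ := (inferInstance : Nonempty (Sylow r S))
  have h2 := h1 Q
  rw [Q.card_eq_multiplicity] at h2
  exact ⟨(Nat.card S).factorization r,
    hr.factorization_pos_of_dvd Nat.card_pos.ne' (H671.FactRows.prime_dvd_of_lie hr h),
    H424.DegTools.mem_charDegrees.2 ⟨χ, hχ, h2⟩⟩

theorem alt_deg {m : ℕ} (hm : 7 ≤ m) (e : S ≃* alternatingGroup (Fin m)) : m - 1 ∈ charDegrees A := by
  have := hA.normal
  obtain ⟨χ, hχ, -, h1⟩ := H464.AltExt.alt_ext S hm e
  exact H424.DegTools.mem_charDegrees.2 ⟨χ, hχ, h1⟩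

end

theorem lie_five {S : Type u} [Group S] (e : S ≃* alternatingGroup (Fin 5)) : IsLieTypeChar 5 S := by
  have : Fact (Nat.Prime 5) := ⟨by norm_num⟩
  obtain ⟨f⟩ := Cfsg.Agent.S0253.psl_zmod5
  exact Or.inl ⟨ZMod 5, inferInstance, inferInstance, inferInstance, 2, le_rfl,
      fun _ => by rw [ZMod.card]; norm_num, ⟨e.trans f.symm⟩⟩

theorem prime_dvd_alt {m p : ℕ} (hp : p.Prime) (h3 : 3 ≤ p) (hm : 5 ≤ m) (hpl : p ≤ m) :
    p ∣ Nat.card (alternatingGroup (Fin m)) := by
  have : Nontrivial (Fin m) := Fin.nontrivial_iff_two_le.2 (by omega)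
  have h1 := two_mul_nat_card_alternatingGroup (α := Fin m)
  rw [Nat.card_perm, Nat.card_fin] at h1
  have h2 : p ∣ 2 * Nat.card (alternatingGroup (Fin m)) := by
    rw [h1]
    exact (hp.dvd_factorial).2 hpl
  rcases hp.dvd_mul.1 h2 with h | h
  · have := Nat.le_of_dvd (by norm_num) h
    omega
  · exact h

theorem prime_mem {r : ℕ} (hr : r.Prime) : ∀ L : List (ℕ × ℕ), (∀ x ∈ L, x.1.Prime) →
    r ∣ H653.Sieve.facProd L → r ∈ L.map Prod.fst
  | [], _, h => absurd (Nat.dvd_one.1 h) hr.one_lt.ne'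
  | x :: L, hL, h => by
    rw [List.map_cons, List.mem_cons]
    rcases hr.dvd_mul.1 (show r ∣ x.1 ^ x.2 * H653.Sieve.facProd L from h) with h1 | h1
    · left
      exact (Nat.prime_dvd_prime_iff_eq hr (hL x List.mem_cons_self)).1 (hr.dvd_of_dvd_pow h1)
    · right
      exact prime_mem hr L (fun y hy => hL y (List.mem_cons_of_mem _ hy)) h1

theorem mem_of_irr {K : Type*} [Group K] {m : ℕ} (h : ∃ ψ : K → ℂ, IsIrrCharacter K ψ ∧ ψ 1 = ((m : ℕ) : ℂ)) :
    m ∈ charDegrees K := H424.DegTools.mem_charDegrees.2 h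

theorem mem_of_irr' {K : Type*} [Group K] {m : ℕ} (h : ∃ ψ : IrrCharacter K, (ψ : K → ℂ) 1 = ((m : ℕ) : ℂ)) :
    m ∈ charDegrees K := by
  obtain ⟨ψ, h1⟩ := h
  exact mem_of_irr ⟨ψ, ψ.2, h1⟩

theorem mem_of_equiv {K T : Type*} [Group K] [Group T] (e : K ≃* T) {m : ℕ} (h : m ∈ charDegrees T) :
    m ∈ charDegrees K := H424.DegTools.charDegrees_of_surjective e.toMonoidHom e.surjective h

theorem not_comm_of_even {X : Type u} [Group X] [Finite X] [IsSimpleGroup X] (h2 : 2 ∣ Nat.card X)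
    (h3 : 2 < Nat.card X) : ¬ ∀ a b : X, a * b = b * a := by
  intro hcom
  let _ : CommGroup X := { (inferInstance : Group X) with mul_comm := hcom }
  have h := IsSimpleGroup.prime_card (α := X)
  have h4 := (Nat.prime_dvd_prime_iff_eq Nat.prime_two h).1 h2
  omega

/-- a simple group of the order of a sporadic group is that group -/
theorem real_of_order {X : Type u} [Group X] [Finite X] [IsSimpleGroup X] {x : OrdDiv.Grp × ℕ × List (ℕ × ℕ)}
    (hx : x ∈ H403.sporFac) (hc : Nat.card X = x.2.1) (h2 : 2 ∣ x.2.1) (h3 : 2 < x.2.1) : OrdDiv.Real x.1 X :=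
  H403.real_of_card OrdDiv.table (S0000.result (G := X))
    (not_comm_of_even (by rw [hc]; exact h2) (by rw [hc]; exact h3)) hx hc

theorem isoFi23 {X : Type u} [Group X] [Finite X] (h : IsFi23 X) : Spor.IsoFi23 X := by
  have := h.1
  exact real_of_order (x := (.fi23, 4089470473293004800, [(2,18),(3,13),(5,2),(7,1),(11,1),(13,1),(17,1),(23,1)]))
    (by simp [H403.sporFac]) h.2 (by norm_num) (by norm_num)

theorem isoTh {X : Type u} [Group X] [Finite X] (h : IsTh X) : Spor.IsoTh X := by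
  have := h.1
  exact real_of_order (x := (.th, 90745943887872000, [(2,15),(3,10),(5,3),(7,2),(13,1),(19,1),(31,1)]))
    (by simp [H403.sporFac]) h.2 (by norm_num) (by norm_num)

end Cfsg.Agent.H196.S8
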