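import Cfsg.Agent.H196.S8.Core
import Cfsg.Agent.H856.F23.Deg
import Cfsg.Agent.H672.SporIM.RankRows
import Cfsg.Agent.H765.DS.HSMcL
import Cfsg.Agent.H843.IMC.Co1B
import Cfsg.Agent.H843.IMC.Co2A
import Cfsg.Agent.H843.IMC.Co3A
import Cfsg.Agent.H603.FD.Spor
import Cfsg.Agent.H678.DG.HeDegA
import Cfsg.Agent.H678.DG.Tits
import Cfsg.Agent.H3.DS.Fi22Row
import Cfsg.Agent.H707.RowTits
import Cfsg.Agent.NotCT.Orders
import Cfsg.Agent.H417.RecogMathieu

/-!
# S4908: the row SOC1 of `Fi₂₃` (helper196)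

The residues of the degrees modulo 17 and 23 exclude all prime powers, the degrees `m - 1` of the alternating groups and
a degree of each sporadic group.
-/

set_option autoImplicit false
set_option maxRecDepth 100000

namespace Cfsg.Agent.H196.S8.Fi23

open Cfsg Subgroup
open Cfsg.Agent.H691.AN (AlmostSimple)
open Cfsg.Agent.H653.Sieve Cfsg.Agent.H651.Two Cfsg.Agent.H511.Ore Cfsg.Agent.H856.F23
open Cfsg.Spor (Fi23)

universe u v

def c17 : CD := ⟨17, 1, 16, 1, [(0, 0), (1, 1), (16, -1)], 0, false⟩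

theorem c17_has : c17.Has Fi23 := by
  refine ⟨by norm_num [c17], _, ?_, card17⟩
  have h := H839.Fi23.card_y17
  rw [Nat.card_zpowers] at h
  exact h

/-- the admissible residues -/
def ok (d : ℕ) : Bool :=
  [0, 1, 11, 12, 22].contains (d % 23) && [0, 1, 16].contains (d % 17)

theorem of_any {l : List (ℕ × ℤ)} {m : ℕ} (h : (l.any fun rw => Nat.beq m rw.1) = true) : m ∈ l.map Prod.fst := by
  obtain ⟨x, hx, h1⟩ := List.any_eq_true.1 h
  rw [Nat.eq_of_beq_eq_true h1]
  exact List.mem_map_of_mem hx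

theorem deg_fi {d : ℕ} (hd : d ∈ charDegrees Fi23) : d ∣ 4089470473293004800 ∧ ok d = true := by
  have := H713.Spor.Fi23.finite_fi23
  have := simp23
  obtain ⟨χ, rfl⟩ := hd
  refine ⟨by rw [← Cfsg.Agent.Fischer.Fi23Simple.card_Fi23]; exact charDegree_dvd χ, ?_⟩
  have h1 := of_any (res_of_has not_comm23 Cfsg.Agent.Fischer.Fi23Simple.card_Fi23 cd23_has (by decide +kernel) χ)
  have h2 := of_any (res_of_has not_comm23 Cfsg.Agent.Fischer.Fi23Simple.card_Fi23 c17_has (by decide +kernel) χ)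
  rw [ok, Bool.and_eq_true]
  exact ⟨List.contains_iff_mem.2 h1, List.contains_iff_mem.2 h2⟩

theorem deg_X {X : Type v} [Group X] (h : Spor.IsoFi23 X) {d : ℕ} (hd : d ∈ charDegrees X) :
    d ∣ 4089470473293004800 ∧ ok d = true := by
  obtain ⟨e⟩ := h
  exact deg_fi (mem_of_equiv e.symm hd)

theorem pp_chk : ∀ r ∈ [2, 3, 5, 7, 11, 13, 17, 23], ∀ v ∈ List.range 62, 1 ≤ v →
    ¬ (r ^ v ∣ 4089470473293004800 ∧ ok (r ^ v) = true) := by
  decide +kernel

theorem no_pp {r v : ℕ} (hr : r.Prime) (hv : 0 < v) (h1 : r ^ v ∣ 4089470473293004800) (h2 : ok (r ^ v) = true) :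
    False := by
  have h3 : r ∈ LF.map Prod.fst := prime_mem hr LF
    (fun x hx => by simp only [LF, List.mem_cons, List.not_mem_nil, or_false] at hx; rcases hx with rfl | rfl | rfl | rfl | rfl | rfl | rfl | rfl <;> norm_num)
    (by rw [show facProd LF = 4089470473293004800 by decide +kernel]; exact (dvd_pow_self r hv.ne').trans h1)
  have h4 : v < 62 := by
    by_contra hcon
    have h5 : 2 ^ 62 ≤ r ^ v := (Nat.pow_le_pow_right (by norm_num) (by omega)).trans (Nat.pow_le_pow_left hr.two_le v)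
    have h6 := Nat.le_of_dvd (by norm_num) h1
    omega
  exact pp_chk r h3 v (List.mem_range.2 h4) hv ⟨h1, h2⟩

theorem low_chk : ∀ x ∈ [6, 7, 8, 9, 10, 11, 12, 13, 14, 15, 16, 17, 20, 45, 90, 22, 32, 16, 21, 42, 23, 46, 36, 72, 44,
    780, 1560, 680, 1360, 276, 552, 429, 858, 78, 156, 1035, 2070], x ∣ 4089470473293004800 → ok x = true → False := by
  decide +kernel

section

variable {A : Type u} [Group A] [Finite A] {S : Subgroup A} (hA : AlmostSimple A S)
  (hD : ∀ d ∈ charDegrees A, d ∣ 4089470473293004800 ∧ ok d = true)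

include hA hD

theorem pr {p : ℕ} (hp : p.Prime) (hd : p ∣ Nat.card S) : p ∣ 4089470473293004800 := by
  obtain ⟨d, h1, h2⟩ := prime_deg hA hp hd
  exact h2.trans (hD d h1).1

theorem two (hout : Nat.card (Out S) ≤ 2) {a : ℕ} (ha : a ∈ charDegrees S)
    (h1 : a ∣ 4089470473293004800 → ok a = true → False)
    (h2 : 2 * a ∣ 4089470473293004800 → ok (2 * a) = true → False) : False := by
  rcases two_deg hA hout ha with h | h
  · exact h1 (hD _ h).1 (hD _ h).2
  · exact h2 (hD _ h).1 (hD _ h).2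

theorem lie {r : ℕ} (hr : r.Prime) (h : IsLieTypeChar r S) : False := by
  obtain ⟨v, hv, h1⟩ := lie_pp hA hr h
  exact no_pp hr hv (hD _ h1).1 (hD _ h1).2

theorem alt {m : ℕ} (hm : 5 ≤ m) (e : S ≃* alternatingGroup (Fin m)) : False := by
  rcases Nat.lt_or_ge m 7 with h7 | h7
  · have : m = 5 ∨ m = 6 := by omega
    rcases this with rfl | rfl
    · exact lie hA hD (by norm_num) (lie_five e)
    · exact lie hA hD (r := 3) (by norm_num) (H679.isLie_six ⟨e⟩)
  · have h18 : m ≤ 18 := by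
      by_contra hcon
      have h1 := pr hA hD (p := 19) (by norm_num)
        (by rw [Nat.card_congr e.toEquiv]; exact prime_dvd_alt (by norm_num) (by norm_num) hm (by omega))
      norm_num at h1
    have h1 := hD _ (alt_deg hA h7 e)
    refine low_chk (m - 1) ?_ h1.1 h1.2
    interval_cases m <;> decide

theorem tits (h : Lie.IsoTits S) : False := by
  have hout := H489.card_out_tits h
  obtain ⟨e⟩ := h
  obtain ⟨f⟩ := H707.RowTits.equiv
  exact two hA hD hout (mem_of_equiv (e.trans f) H678.DG.Tits.deg_78) (low_chk 78 (by decide)) (low_chk 156 (by decide))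

theorem spor (h : IsSporadicGroup S) : Spor.IsoFi23 S := by
  have hout := H489.card_out_sporadic h
  have key : ∀ {a : ℕ}, a ∈ charDegrees S → (a ∣ 4089470473293004800 → ok a = true → False) →
      (2 * a ∣ 4089470473293004800 → ok (2 * a) = true → False) → Spor.IsoFi23 S :=
    fun ha h1 h2 => (two hA hD hout ha h1 h2).elim
  have kp : ∀ {p N : ℕ}, p.Prime → Nat.card S = N → p ∣ N → ¬ p ∣ 4089470473293004800 → Spor.IsoFi23 S :=
    fun hp h1 h2 h3 => (h3 (pr hA hD hp (by rw [h1]; exact h2))).elim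
  rcases h with h | h | h | h | h | h | h | h | h | h | h | h | h | h | h | h | h | h | h | h | h | h | h | h | h | h
  · obtain ⟨h1, h2, -⟩ := H603.FD.Spor.m11 (UGT.End.MEleven.isM11 h)
    exact key h1 (low_chk 10 (by decide)) (low_chk 20 (by decide))
  · obtain ⟨h1, h2, -⟩ := H603.FD.Spor.m12 (H603.FD.Spor.isM12 h)
    exact key h1 (low_chk 16 (by decide)) (low_chk 32 (by decide))
  · obtain ⟨h1, h2, -⟩ := H603.FD.Spor.m22 (H417.RecogMathieu.isM22 h)
    exact key h1 (low_chk 21 (by decide)) (low_chk 42 (by decide))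
  · obtain ⟨h1, h2, -⟩ := H603.FD.Spor.m23 (H417.RecogMathieu.isM23 h)
    exact key h2 (low_chk 45 (by decide)) (low_chk 90 (by decide))
  · obtain ⟨h1, -, h2, -⟩ := H603.FD.Spor.m24 (H417.RecogMathieu.isM24 h)
    exact key h1 (low_chk 1035 (by decide)) (low_chk 2070 (by decide))
  · exact kp (p := 19) (by norm_num) (NotCT.Orders.j1 h) (by norm_num) (by norm_num)
  · exact key (H672.SporIM.j2 h).2 (low_chk 36 (by decide)) (low_chk 72 (by decide))
  · exact kp (p := 19) (by norm_num) (NotCT.Orders.j3 h) (by norm_num) (by norm_num)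
  · exact kp (p := 43) (by norm_num) (NotCT.Orders.j4 h) (by norm_num) (by norm_num)
  · obtain ⟨e⟩ := h
    exact key (mem_of_equiv e H843.IMC.Co1B.hasDeg_276) (low_chk 276 (by decide)) (low_chk 552 (by decide))
  · obtain ⟨e⟩ := h
    exact key (mem_of_equiv e H843.IMC.Co2A.hasDeg_23) (low_chk 23 (by decide)) (low_chk 46 (by decide))
  · obtain ⟨e⟩ := h
    exact key (mem_of_equiv e H843.IMC.Co3A.hasDeg_23) (low_chk 23 (by decide)) (low_chk 46 (by decide))
  · exact key (mem_of_irr (H765.DS.HSMcL.mcl_22 h)) (low_chk 22 (by decide)) (low_chk 44 (by decide))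
  · exact key (mem_of_irr (H765.DS.HSMcL.hs_22 h)) (low_chk 22 (by decide)) (low_chk 44 (by decide))
  · exact key (H672.SporIM.suz h).2 (low_chk 780 (by decide)) (low_chk 1560 (by decide))
  · obtain ⟨e⟩ := h
    exact key (mem_of_equiv e H678.DG.HeDegA.deg_680) (low_chk 680 (by decide)) (low_chk 1360 (by decide))
  · exact kp (p := 29) (by norm_num) (NotCT.Orders.ru h) (by norm_num) (by norm_num)
  · exact kp (p := 31) (by norm_num) (NotCT.Orders.on h) (by norm_num) (by norm_num)
  · exact kp (p := 67) (by norm_num) (NotCT.Orders.ly h) (by norm_num) (by norm_num)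
  · exact key (mem_of_irr (H3.DS.Fi22.exists_deg h).1) (low_chk 429 (by decide)) (low_chk 858 (by decide))
  · exact h
  · exact kp (p := 29) (by norm_num) (NotCT.Orders.fi24 h) (by norm_num) (by norm_num)
  · exact kp (p := 19) (by norm_num) (NotCT.Orders.hn h) (by norm_num) (by norm_num)
  · exact kp (p := 31) (by norm_num) (NotCT.Orders.th h) (by norm_num) (by norm_num)
  · exact kp (p := 47) (by norm_num) (NotCT.Orders.b h) (by norm_num) (by norm_num)
  · exact kp (p := 71) (by norm_num) (NotCT.Orders.m h) (by norm_num) (by norm_num)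

theorem main : Spor.IsoFi23 S := by
  have := hA.simple
  rcases exists_split S hA.nonab with ⟨l, hl, ⟨e⟩⟩ | ⟨r, hr, h⟩ | h | h
  · exact (alt hA hD hl e).elim
  · exact (lie hA hD hr h).elim
  · exact (tits hA hD h).elim
  · exact spor hA hD h

end

/-- **SOC1 for `Fi₂₃`**, model version -/
theorem soc1_iso {X : Type v} [Group X] (hX : Spor.IsoFi23 X) {D : Set ℕ} (hD : H704.S8.Deg 1 X D) :
    H704.S8.Soc1.{u} D X := by
  intro A _ _ S hA h
  obtain rfl : D = charDegrees X := hD.resolve_right fun h => absurd h.1 (by norm_num)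
  obtain ⟨e⟩ := main hA fun d hd => deg_X hX (h hd)
  obtain ⟨f⟩ := hX
  exact ⟨e.trans f.symm⟩

/-- **SOC1 for `Fi₂₃`** -/
theorem soc1 {X : Type v} [Group X] [Finite X] (hX : Cfsg.IsFi23 X) {D : Set ℕ} (hD : H704.S8.Deg 1 X D) :
    H704.S8.Soc1.{u} D X := soc1_iso (isoFi23 hX) hD

end Cfsg.Agent.H196.S8.Fi23
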