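import Cfsg.Agent.H196.S8.FiSocOne
import Cfsg.Agent.H504.AN.MinDeg

/-!
# S4908: the row SOC2 of `Fi₂₃` (helper196)

`|Fi₂₃|` has no square of a prime `≥ 7` and no prime power passes the residue tests modulo 17, 23.
-/

set_option autoImplicit false
set_option maxRecDepth 100000

namespace Cfsg.Agent.H196.S8.Fi23

open Cfsg Subgroup

universe u v

/-- no factor -/
theorem no_factor {Y : Type u} [Group Y] [Finite Y] (hD : ∀ d ∈ charDegrees Y, d ∣ 4089470473293004800 ∧ ok d = true)
    {W : Subgroup Y} [W.Normal] {m : ℕ} (hm : 2 ≤ m) {S : Type u} [Group S] (F : H504.AN.MFac W m S) : False := by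
  have hfin := F.finite
  have hsimp := F.simple
  have hpr : ∀ {p : ℕ}, p.Prime → p ∣ Nat.card S → p ^ m ∣ 4089470473293004800 := by
    intro p hp hpd
    obtain ⟨d', h1, h2⟩ := F.prime_pow (fun q hq hqd => exists_dvd_degree F.nonab hq hqd) hp hpd
    exact h2.trans (hD _ h1).1
  have hsq : ∀ {p N : ℕ}, p.Prime → Nat.card S = N → p ∣ N → ¬ p ^ 2 ∣ 4089470473293004800 → False :=
    fun hp h1 h2 h3 => h3 ((pow_dvd_pow _ hm).trans (hpr hp (by rw [h1]; exact h2)))
  have hlie : ∀ {r : ℕ}, r.Prime → IsLieTypeChar r S → False := by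
    intro r hr h
    have := Fact.mk hr
    obtain ⟨θ, h1, h2⟩ := H761.LieExt.lie_ext F.nonab h
    have h4 : 0 < (Nat.card S).factorization r :=
      hr.factorization_pos_of_dvd Nat.card_pos.ne' (H671.FactRows.prime_dvd_of_lie hr h)
    have h6 : charDegree (θ : S → ℂ) ≠ 1 := by
      rw [h1]
      exact (Nat.one_lt_pow h4.ne' hr.one_lt).ne'
    obtain ⟨k1, -⟩ := F.ext θ h6 h2
    rw [h1, ← pow_mul] at k1
    exact no_pp hr (Nat.mul_pos h4 (by omega)) (hD _ k1).1 (hD _ k1).2
  rcases exists_split S F.nonab with ⟨l, hl, ⟨e⟩⟩ | ⟨r, hr, h⟩ | h | h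
  · rcases Nat.lt_or_ge l 7 with h7 | h7
    · have : l = 5 ∨ l = 6 := by omega
      rcases this with rfl | rfl
      · exact hlie (by norm_num) (lie_five e)
      · exact hlie (r := 3) (by norm_num) (H679.isLie_six ⟨e⟩)
    · exact hsq (p := 7) (by norm_num) (Nat.card_congr e.toEquiv)
        (prime_dvd_alt (by norm_num) (by norm_num) hl h7) (by norm_num)
  · exact hlie hr h
  · exact hsq (p := 13) (by norm_num) (NotCT.Orders.tits h) (by norm_num) (by norm_num)
  · rcases h with h | h | h | h | h | h | h | h | h | h | h | h | h | h | h | h | h | h | h | h | h | h | h | h | h | h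
    · exact hsq (p := 11) (by norm_num) (NotCT.Orders.m11 h) (by norm_num) (by norm_num)
    · exact hsq (p := 11) (by norm_num) (NotCT.Orders.m12 h) (by norm_num) (by norm_num)
    · exact hsq (p := 11) (by norm_num) (NotCT.Orders.m22 h) (by norm_num) (by norm_num)
    · exact hsq (p := 11) (by norm_num) (NotCT.Orders.m23 h) (by norm_num) (by norm_num)
    · exact hsq (p := 11) (by norm_num) (NotCT.Orders.m24 h) (by norm_num) (by norm_num)
    · exact hsq (p := 11) (by norm_num) (NotCT.Orders.j1 h) (by norm_num) (by norm_num)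
    · exact hsq (p := 7) (by norm_num) (NotCT.Orders.j2 h) (by norm_num) (by norm_num)
    · exact hsq (p := 17) (by norm_num) (NotCT.Orders.j3 h) (by norm_num) (by norm_num)
    · exact hsq (p := 11) (by norm_num) (NotCT.Orders.j4 h) (by norm_num) (by norm_num)
    · exact hsq (p := 11) (by norm_num) (NotCT.Orders.co1 h) (by norm_num) (by norm_num)
    · exact hsq (p := 11) (by norm_num) (NotCT.Orders.co2 h) (by norm_num) (by norm_num)
    · exact hsq (p := 11) (by norm_num) (NotCT.Orders.co3 h) (by norm_num) (by norm_num)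
    · exact hsq (p := 11) (by norm_num) (NotCT.Orders.mcl h) (by norm_num) (by norm_num)
    · exact hsq (p := 11) (by norm_num) (NotCT.Orders.hs h) (by norm_num) (by norm_num)
    · exact hsq (p := 11) (by norm_num) (NotCT.Orders.suz h) (by norm_num) (by norm_num)
    · exact hsq (p := 17) (by norm_num) (NotCT.Orders.he h) (by norm_num) (by norm_num)
    · exact hsq (p := 29) (by norm_num) (NotCT.Orders.ru h) (by norm_num) (by norm_num)
    · exact hsq (p := 11) (by norm_num) (NotCT.Orders.on h) (by norm_num) (by norm_num)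
    · exact hsq (p := 11) (by norm_num) (NotCT.Orders.ly h) (by norm_num) (by norm_num)
    · exact hsq (p := 11) (by norm_num) (NotCT.Orders.fi22 h) (by norm_num) (by norm_num)
    · exact hsq (p := 11) (by norm_num) (NotCT.Orders.fi23 h) (by norm_num) (by norm_num)
    · exact hsq (p := 11) (by norm_num) (NotCT.Orders.fi24 h) (by norm_num) (by norm_num)
    · exact hsq (p := 11) (by norm_num) (NotCT.Orders.hn h) (by norm_num) (by norm_num)
    · exact hsq (p := 13) (by norm_num) (NotCT.Orders.th h) (by norm_num) (by norm_num)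
    · exact hsq (p := 11) (by norm_num) (NotCT.Orders.b h) (by norm_num) (by norm_num)
    · exact hsq (p := 11) (by norm_num) (NotCT.Orders.m h) (by norm_num) (by norm_num)

/-- **SOC2 for `Fi₂₃`**, model version -/
theorem soc2_iso {X : Type v} [Group X] (hX : Spor.IsoFi23 X) {D : Set ℕ} (hD : H704.S8.Deg 1 X D) :
    H704.S8.Soc2.{u} D := by
  intro Y _ _ h W hW hne hmin hna
  obtain rfl : D = charDegrees X := hD.resolve_right fun h => absurd h.1 (by norm_num)
  have hna' : ¬ ∀ x ∈ W, ∀ y ∈ W, Commute x y := by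
    intro hc
    exact hna ⟨⟨fun a b => Subtype.ext (hc a a.2 b b.2)⟩⟩
  obtain ⟨m, S, iS, F⟩ := H504.AN.exists_mfac W hmin hna'
  rcases Nat.lt_or_ge m 2 with hm | hm
  · have hm1 : m = 1 := by have := F.pos; omega
    subst hm1
    exact F.simple_of_one
  · exact (no_factor (fun d hd => deg_X hX (h hd)) hm F).elim

/-- **SOC2 for `Fi₂₃`** -/
theorem soc2 {X : Type v} [Group X] [Finite X] (hX : Cfsg.IsFi23 X) {D : Set ℕ} (hD : H704.S8.Deg 1 X D) :
    H704.S8.Soc2.{u} D := soc2_iso (isoFi23 hX) hD

end Cfsg.Agent.H196.S8.Fi23
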