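import Cfsg.Agent.H196.S8.Core
import Cfsg.Agent.NotCT.Fam
import Cfsg.Agent.H808.SmallSylow
import Cfsg.Agent.H113.Two.PsuTwo
import Cfsg.Agent.H149.PGUGoal

/-!
# S4908, SOC1: socles of Lie type in characteristic 2 whose order is divisible only by primes of the Conway groups
(helper196)

* `lie_typ` : the type of a socle of Lie type and the Steinberg degree;
* `u5_deg` : `PSU₅(2)` has the degree 44 and at most 2 outer automorphisms;
* `lie_two` : `|S|_2 = 2 ^ 10, 2 ^ 11, 2 ^ 21`, no prime outside `2, 3, 5, 7, 11, 13, 23`: then `44` or `88` is a degree.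
-/

set_option autoImplicit false
set_option maxRecDepth 100000

namespace Cfsg.Agent.H196.S8

open Cfsg Cfsg.Agent.NotCT
open Cfsg.Agent.H691.AN (AlmostSimple)

universe u

/-- the type and the Steinberg degree -/
theorem lie_typ {A : Type u} [Group A] [Finite A] {S : Subgroup A} (hA : AlmostSimple A S) {p : ℕ} (hp : p.Prime)
    (hl : IsLieTypeChar p S) : ∃ (t : Typ) (k : ℕ), t.Valid p k ∧ IsTyp t (p ^ k) S ∧ HasOrd t (p ^ k) S ∧
      0 < k * t.N ∧ p ^ (k * t.N) ∈ charDegrees A := by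
  have := hA.normal
  have := hA.simple
  have := Fact.mk hp
  obtain ⟨t, k, hv, ht⟩ := exists_typ hp hl
  have ho := card_eq hp hv ht
  have h0 := H808.SmallSylow.ordProj_eq hp Nat.card_pos.ne' (dvd_card hp hv ho) (not_dvd_card hp hv ho)
  refine ⟨t, k, hv, ht, ho, Nat.mul_pos (one_le_k hv) (N_pos hv), ?_⟩
  obtain ⟨χ, hχ, -, h1⟩ := H691.StExt.exists_ext S (H996.AllSplit.hasSplit_of_lie hp hl)
  obtain ⟨Q⟩ := (inferInstance : Nonempty (Sylow p S))
  have h2 := h1 Q
  rw [Q.card_eq_multiplicity, h0] at h2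
  exact H424.DegTools.mem_charDegrees.2 ⟨χ, hχ, h2⟩

/-- primes not dividing the orders of the Conway groups -/
def bads : List ℕ := [17, 19, 29, 31, 37, 41, 43, 61, 73, 89, 127, 151]

theorem bads_prime : ∀ p ∈ bads, p.Prime := by
  intro p hp
  simp only [bads, List.mem_cons, List.not_mem_nil, or_false] at hp
  rcases hp with rfl | rfl | rfl | rfl | rfl | rfl | rfl | rfl | rfl | rfl | rfl | rfl <;> norm_num

def tchk (v : ℕ) (t : Typ) : Bool :=
  t.N == 0 || v % t.N != 0 || !decide (t.Valid 2 (v / t.N)) ||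
    bads.any (fun p => t.P (2 ^ (v / t.N)) % p == 0 && t.D (2 ^ (v / t.N)) % p != 0) || (t == .U 5 && v / t.N == 1)

theorem tchk_all : ∀ v ∈ [10, 11, 21], (typs v).all (tchk v) = true := by decide +kernel

/-- `PSU₅(2)` -/
theorem u5_deg {S : Type u} [Group S] (h : IsTyp (.U 5) 2 S) : 44 ∈ charDegrees S ∧ Nat.card (Out S) ≤ 2 := by
  obtain ⟨F, _, _, hF, ⟨e⟩⟩ := h
  have : Fact (Nat.Prime 2) := ⟨Nat.prime_two⟩
  constructor
  · obtain ⟨φ, w, -, h1, h2⟩ := Cfsg.Agent.H113.Two.PsuTwo.f5 (F := F) (q := 2) hF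
    have h3 : w = 11 := by omega
    subst h3
    refine mem_of_equiv e ⟨φ, ?_⟩
    rw [h1]; norm_num
  · rw [H55.OutGen.card_out_congr e, H149.PGU.card_out_psu (p := 2) (f := 1) (q := 2) le_rfl (by norm_num) hF (by norm_num)
      (by norm_num)]
    decide

theorem lie_two {A : Type u} [Group A] [Finite A] {S : Subgroup A} (hA : AlmostSimple A S) (hl : IsLieTypeChar 2 S)
    (hpr : ∀ p ∈ bads, ¬ p ∣ Nat.card S) (hv : ∀ v : ℕ, 0 < v → 2 ^ v ∈ charDegrees A → v = 10 ∨ v = 11 ∨ v = 21) :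
    44 ∈ charDegrees A ∨ 88 ∈ charDegrees A := by
  obtain ⟨t, k, h1, h2, h3, h4, h5⟩ := lie_typ hA Nat.prime_two hl
  obtain ⟨v, hveq⟩ : ∃ v, k * t.N = v := ⟨_, rfl⟩
  rw [hveq] at h4 h5
  have hv' : v ∈ [10, 11, 21] := by
    rcases hv v h4 h5 with rfl | rfl | rfl <;> decide
  have h6 := List.all_eq_true.1 (tchk_all v hv') t (mem_typs h1 hveq)
  have hN : 0 < t.N := N_pos h1
  have hk : v / t.N = k := by rw [← hveq]; exact Nat.mul_div_cancel k hN
  rw [tchk, hk] at h6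
  simp only [Bool.or_eq_true, beq_iff_eq, bne_iff_ne, Bool.not_eq_true', decide_eq_false_iff_not, List.any_eq_true,
    Bool.and_eq_true] at h6
  rcases h6 with (((h6 | h6) | h6) | ⟨p, hp, h6, h7⟩) | ⟨rfl, h7⟩
  · omega
  · exact absurd (by rw [← hveq]; exact Nat.mul_mod_left k t.N) h6
  · exact absurd h1 h6
  · exfalso
    have hpp := bads_prime p hp
    have h8 : t.D (2 ^ k) * Nat.card S = (2 ^ k) ^ t.N * t.P (2 ^ k) := h3
    have h9 : p ∣ t.D (2 ^ k) * Nat.card S := by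
      rw [h8]
      exact (Nat.dvd_of_mod_eq_zero h6).mul_left _
    rcases hpp.dvd_mul.1 h9 with h10 | h10
    · exact h7 (Nat.mod_eq_zero_of_dvd h10)
    · exact hpr p hp h10
  · subst h7
    rw [pow_one] at h2
    obtain ⟨h8, h9⟩ := u5_deg h2
    exact two_deg hA h9 h8

end Cfsg.Agent.H196.S8
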