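import Cfsg.Agent.H196.S8.Core
import Cfsg.Agent.H174.Ore.DegTh
import Cfsg.Agent.H504.AN.MinDeg
import Cfsg.Agent.H672.SporIM.RankRows
import Cfsg.Agent.NotCT.Orders

/-!
# S4908: the row SOC2 of `Th` (helper196)

`|Th|` has no square of a prime `≥ 11` and no prime power passes the residue tests modulo 31, 19, 13; so a factor of a
minimal normal subgroup `S ^ m`, `m ≥ 2`, is alternating of degree at most 10 or `J₂`, `m = 2`, and `2 c a` is below 248.
-/

set_option autoImplicit false
set_option maxRecDepth 100000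

namespace Cfsg.Agent.H196.S8.Th

open Cfsg Subgroup
open Cfsg.Agent.H653.Sieve Cfsg.Agent.H651.Two Cfsg.Agent.H511.Ore Cfsg.Agent.H174.Ore.Th

universe u v

/-- the admissible residues -/
def ok (d : ℕ) : Bool :=
  ([0, 1, 15, 16, 30].contains (d % 31) && [0, 1, 18].contains (d % 19) && [0, 1, 12, 2, 11].contains (d % 13)) &&
    (!(List.contains [171, 247] d))

theorem of_any {l : List (ℕ × ℤ)} {m : ℕ} (h : (l.any fun rw => Nat.beq m rw.1) = true) : m ∈ l.map Prod.fst := by
  obtain ⟨x, hx, h1⟩ := List.any_eq_true.1 h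
  rw [Nat.eq_of_beq_eq_true h1]
  exact List.mem_map_of_mem hx

theorem deg_th {d : ℕ} (hd : d ∈ charDegrees Spor.Th) : d ∣ 90745943887872000 ∧ ok d = true := by
  have := H174.Ore.Th.finite
  have := H174.Ore.Th.simple
  obtain ⟨χ, rfl⟩ := hd
  refine ⟨by rw [← H174.Ore.Th.card]; exact charDegree_dvd χ, ?_⟩
  have h1 := of_any (res_of_has nonab H174.Ore.Th.card has31 (by decide +kernel) χ)
  have h2 := of_any (res_of_has nonab H174.Ore.Th.card has19 (by decide +kernel) χ)
  have h3 := of_any (res_of_has nonab H174.Ore.Th.card has13 (by decide +kernel) χ)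
  have h4 := noDeg χ
  rw [ok, Bool.and_eq_true, Bool.and_eq_true, Bool.and_eq_true]
  refine ⟨⟨⟨List.contains_iff_mem.2 h1, List.contains_iff_mem.2 h2⟩, List.contains_iff_mem.2 h3⟩, ?_⟩
  rw [Bool.not_eq_true', Bool.eq_false_iff]
  intro h
  exact h4 (List.contains_iff_mem.1 h)

theorem deg_X {X : Type v} [Group X] (h : Spor.IsoTh X) {d : ℕ} (hd : d ∈ charDegrees X) :
    d ∣ 90745943887872000 ∧ ok d = true := by
  obtain ⟨e⟩ := h
  exact deg_th (mem_of_equiv e.symm hd)

theorem pp_chk : ∀ r ∈ [31, 19, 13, 7, 5, 3, 2], ∀ v ∈ List.range 57, 1 ≤ v →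
    ¬ (r ^ v ∣ 90745943887872000 ∧ ok (r ^ v) = true) := by
  decide +kernel

theorem no_pp {r v : ℕ} (hr : r.Prime) (hv : 0 < v) (h1 : r ^ v ∣ 90745943887872000) (h2 : ok (r ^ v) = true) :
    False := by
  have h3 : r ∈ fac.map Prod.fst := prime_mem hr fac
    (fun x hx => by simp only [fac, List.mem_cons, List.not_mem_nil, or_false] at hx; rcases hx with rfl | rfl | rfl | rfl | rfl | rfl | rfl <;> norm_num)
    (by rw [chk3]; exact (dvd_pow_self r hv.ne').trans h1)
  have h4 : v < 57 := by
    by_contra hcon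
    have h5 : 2 ^ 57 ≤ r ^ v := (Nat.pow_le_pow_right (by norm_num) (by omega)).trans (Nat.pow_le_pow_left hr.two_le v)
    have h6 := Nat.le_of_dvd (by norm_num) h1
    omega
  exact pp_chk r h3 v (List.mem_range.2 h4) hv ⟨h1, h2⟩

theorem min_chk : ∀ d ∈ List.range 248, d ∣ 90745943887872000 → ok d = true → d = 1 := by
  decide +kernel

/-- no factor -/
theorem no_factor {Y : Type u} [Group Y] [Finite Y] (hD : ∀ d ∈ charDegrees Y, d ∣ 90745943887872000 ∧ ok d = true)
    {W : Subgroup Y} [W.Normal] {m : ℕ} (hm : 2 ≤ m) {S : Type u} [Group S] (F : H504.AN.MFac W m S) : False := by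
  have hfin := F.finite
  have hsimp := F.simple
  have hpr : ∀ {p : ℕ}, p.Prime → p ∣ Nat.card S → p ^ m ∣ 90745943887872000 := by
    intro p hp hpd
    obtain ⟨d', h1, h2⟩ := F.prime_pow (fun q hq hqd => exists_dvd_degree F.nonab hq hqd) hp hpd
    exact h2.trans (hD _ h1).1
  have hsq : ∀ {p N : ℕ}, p.Prime → Nat.card S = N → p ∣ N → ¬ p ^ 2 ∣ 90745943887872000 → False :=
    fun hp h1 h2 h3 => h3 ((pow_dvd_pow _ hm).trans (hpr hp (by rw [h1]; exact h2)))
  have hm7 : 7 ∣ Nat.card S → m = 2 := by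
    intro h
    by_contra hcon
    have h1 := (pow_dvd_pow 7 (show 3 ≤ m by omega)).trans (hpr (p := 7) (by norm_num) h)
    norm_num at h1
  have hlow : ∀ {a : ℕ}, Nat.card (Out S) ≤ 2 → m = 2 → a ∈ charDegrees S → a ≠ 1 → a < 62 → False := by
    intro a hout h2 ha ha1 ha2
    obtain ⟨c, hc, h3⟩ := F.mul ha ha1
    have : Finite (MulAut S) := Finite.of_injective _ (DFunLike.coe_injective (F := MulAut S))
    have hc2 := Nat.le_of_dvd Nat.card_pos hc
    have ha0 : 0 < a := H424.DegTools.pos_of_mem ha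
    have hc0 : 0 < c := Nat.pos_of_dvd_of_pos hc Nat.card_pos
    have h4 := hD _ h3
    have h5 : c * a ≤ 2 * a := Nat.mul_le_mul_right a (by omega)
    have h6 : 1 * a ≤ c * a := Nat.mul_le_mul_right a hc0
    subst h2
    have h7 := min_chk (2 * (c * a)) (List.mem_range.2 (by omega)) h4.1 h4.2
    omega
  have hlie : ∀ {r : ℕ}, r.Prime → IsLieTypeChar r S → False := by
    intro r hr h
    have := Fact.mk hr
    obtain ⟨θ, h1, h2⟩ := H761.LieExt.lie_ext F.nonab h
    have h4 : 0 < (Nat.card S).factorization r :=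
      hr.factorization_pos_of_dvd Nat.card_pos.ne' (H671.FactRows.prime_dvd_of_lie hr h)
    have h6 : charDegree (θ : S → ℂ) ≠ 1 := by
      rw [h1]
      exact (Nat.one_lt_pow h4.ne' hr.one_lt).ne'
    obtain ⟨k1, -⟩ := F.ext θ h6 h2
    rw [h1, ← pow_mul] at k1
    exact no_pp hr (Nat.mul_pos h4 (by omega)) (hD _ k1).1 (hD _ k1).2
  rcases exists_split S F.nonab with ⟨l, hl, ⟨e⟩⟩ | ⟨r, hr, h⟩ | h | h
  · rcases Nat.lt_or_ge l 7 with h7 | h7
    · have : l = 5 ∨ l = 6 := by omega
      rcases this with rfl | rfl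
      · exact hlie (by norm_num) (lie_five e)
      · exact hlie (r := 3) (by norm_num) (H679.isLie_six ⟨e⟩)
    · have h10 : l ≤ 10 := by
        by_contra hcon
        exact hsq (p := 11) (by norm_num) (Nat.card_congr e.toEquiv)
          (prime_dvd_alt (by norm_num) (by norm_num) hl (by omega)) (by norm_num)
      have h2 := hm7 (by rw [Nat.card_congr e.toEquiv]; exact prime_dvd_alt (by norm_num) (by norm_num) hl h7)
      obtain ⟨χ, hχ, -, h1⟩ := H464.AltExt.alt_ext (⊤ : Subgroup S) h7 (Subgroup.topEquiv.trans e)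
      refine hlow (a := l - 1) ?_ h2 (mem_of_irr ⟨χ, hχ, h1⟩) (by omega) (by omega)
      rw [H55.OutGen.card_out_congr e, H489.card_out_alt hl (by omega)]
  · exact hlie hr h
  · exact hsq (p := 13) (by norm_num) (NotCT.Orders.tits h) (by norm_num) (by norm_num)
  · have hout := H489.card_out_sporadic h
    rcases h with h | h | h | h | h | h | h | h | h | h | h | h | h | h | h | h | h | h | h | h | h | h | h | h | h | h
    · exact hsq (p := 11) (by norm_num) (NotCT.Orders.m11 h) (by norm_num) (by norm_num)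
    · exact hsq (p := 11) (by norm_num) (NotCT.Orders.m12 h) (by norm_num) (by norm_num)
    · exact hsq (p := 11) (by norm_num) (NotCT.Orders.m22 h) (by norm_num) (by norm_num)
    · exact hsq (p := 11) (by norm_num) (NotCT.Orders.m23 h) (by norm_num) (by norm_num)
    · exact hsq (p := 11) (by norm_num) (NotCT.Orders.m24 h) (by norm_num) (by norm_num)
    · exact hsq (p := 11) (by norm_num) (NotCT.Orders.j1 h) (by norm_num) (by norm_num)
    · exact hlow hout (hm7 (by rw [NotCT.Orders.j2 h]; norm_num)) (H672.SporIM.j2 h).2 (by norm_num) (by norm_num)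
    · exact hsq (p := 17) (by norm_num) (NotCT.Orders.j3 h) (by norm_num) (by norm_num)
    · exact hsq (p := 11) (by norm_num) (NotCT.Orders.j4 h) (by norm_num) (by norm_num)
    · exact hsq (p := 11) (by norm_num) (NotCT.Orders.co1 h) (by norm_num) (by norm_num)
    · exact hsq (p := 11) (by norm_num) (NotCT.Orders.co2 h) (by norm_num) (by norm_num)
    · exact hsq (p := 11) (by norm_num) (NotCT.Orders.co3 h) (by norm_num) (by norm_num)
    · exact hsq (p := 11) (by norm_num) (NotCT.Orders.mcl h) (by norm_num) (by norm_num)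
    · exact hsq (p := 11) (by norm_num) (NotCT.Orders.hs h) (by norm_num) (by norm_num)
    · exact hsq (p := 11) (by norm_num) (NotCT.Orders.suz h) (by norm_num) (by norm_num)
    · exact hsq (p := 17) (by norm_num) (NotCT.Orders.he h) (by norm_num) (by norm_num)
    · exact hsq (p := 29) (by norm_num) (NotCT.Orders.ru h) (by norm_num) (by norm_num)
    · exact hsq (p := 11) (by norm_num) (NotCT.Orders.on h) (by norm_num) (by norm_num)
    · exact hsq (p := 11) (by norm_num) (NotCT.Orders.ly h) (by norm_num) (by norm_num)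
    · exact hsq (p := 11) (by norm_num) (NotCT.Orders.fi22 h) (by norm_num) (by norm_num)
    · exact hsq (p := 11) (by norm_num) (NotCT.Orders.fi23 h) (by norm_num) (by norm_num)
    · exact hsq (p := 11) (by norm_num) (NotCT.Orders.fi24 h) (by norm_num) (by norm_num)
    · exact hsq (p := 11) (by norm_num) (NotCT.Orders.hn h) (by norm_num) (by norm_num)
    · exact hsq (p := 13) (by norm_num) (NotCT.Orders.th h) (by norm_num) (by norm_num)
    · exact hsq (p := 11) (by norm_num) (NotCT.Orders.b h) (by norm_num) (by norm_num)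
    · exact hsq (p := 11) (by norm_num) (NotCT.Orders.m h) (by norm_num) (by norm_num)

/-- **SOC2 for `Th`**, model version -/
theorem soc2_iso {X : Type v} [Group X] (hX : Spor.IsoTh X) {D : Set ℕ} (hD : H704.S8.Deg 1 X D) :
    H704.S8.Soc2.{u} D := by
  intro Y _ _ h W hW hne hmin hna
  obtain rfl : D = charDegrees X := hD.resolve_right fun h => absurd h.1 (by norm_num)
  have hna' : ¬ ∀ x ∈ W, ∀ y ∈ W, Commute x y := by
    intro hc
    exact hna ⟨⟨fun a b => Subtype.ext (hc a a.2 b b.2)⟩⟩
  obtain ⟨m, S, iS, F⟩ := H504.AN.exists_mfac W hmin hna'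
  rcases Nat.lt_or_ge m 2 with hm | hm
  · have hm1 : m = 1 := by have := F.pos; omega
    subst hm1
    exact F.simple_of_one
  · exact (no_factor (fun d hd => deg_X hX (h hd)) hm F).elim

/-- **SOC2 for `Th`** -/
theorem soc2 {X : Type v} [Group X] [Finite X] (hX : Cfsg.IsTh X) {D : Set ℕ} (hD : H704.S8.Deg 1 X D) :
    H704.S8.Soc2.{u} D := soc2_iso (isoTh hX) hD

end Cfsg.Agent.H196.S8.Th
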